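import Groth.Agent.Lib.BCComp.PullOn
import Groth.Agent.Lib.Cohom.RpushModules

/-! # Base change maps of composed squares -/

set_option autoImplicit false
set_option backward.isDefEq.respectTransparency false
set_option linter.style.haveILetI false
set_option maxHeartbeats 1000000
universe u

open CategoryTheory CategoryTheory.Limits AlgebraicGeometry Opposite TopologicalSpace
open GrothLib.BCCoh (pullRes)

namespace GrothLib.BCComp

variable {X Y S S' : Scheme.{u}}

/-- A map out of a module is determined on a basis of affine opens. -/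
theorem hom_ext_affine {M N : S.Modules} {a b : M ⟶ N}
    (h : ∀ (V : S.Opens), IsAffineOpen V → ∀ s : Γ(M, V), a.app V s = b.app V s) : a = b := by
  ext V s
  refine TopCat.Presheaf.section_ext (C := Ab.{u}) (X := S.carrier) ⟨N.presheaf, N.isSheaf⟩ V _ _ fun z hz => ?_
  obtain ⟨W, hW, hzW, hWV⟩ := exists_isAffineOpen_mem_and_subset hz
  show N.presheaf.germ V z hz (a.app V s) = N.presheaf.germ V z hz (b.app V s)
  have ha := CohPullLib.app_res a hWV s
  have hb := CohPullLib.app_res b hWV s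
  rw [← TopCat.Presheaf.germ_res_apply N.presheaf (homOfLE hWV) z hzW (a.app V s), ← ha, h W hW, hb,
    TopCat.Presheaf.germ_res_apply]

variable {f : X ⟶ S} {g : S' ⟶ S} {f' : Y ⟶ S'} {g' : Y ⟶ X} {w : g' ≫ f = f' ≫ g}
  [HasInjectiveResolutions X.Modules] [HasInjectiveResolutions Y.Modules]
  {Δ : RDer.DerivedLES (Scheme.Modules.pushforward f)} {Δ' : RDer.DerivedLES (Scheme.Modules.pushforward f')}
  {E : CohCmp.SectCmp f Δ} {E' : CohCmp.SectCmp f' Δ'}

/-- The base change map on pulled-back classes. -/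
theorem bc_pullRes_eps (B : CohCmp.GenBC f g f' g' w E E') (F : X.Modules) (p : ℕ) (V : S.Opens)
    (x : Coh.HHon X F (f ⁻¹ᵁ V) p) :
    (B.bc p F).app (g ⁻¹ᵁ V) (pullRes g ((Coh.Rpush f p).obj F) V (g ⁻¹ᵁ V) le_rfl (E.ε V F p x)) =
      E'.ε (g ⁻¹ᵁ V) ((Scheme.Modules.pullback g').obj F) p
        (CohPull.pullOn g' (f ⁻¹ᵁ V) (f' ⁻¹ᵁ (g ⁻¹ᵁ V)) (CohCmp.sqLE f g f' g' w V) F p x) :=
  (BCCrit.bc_pullRes B F p V (g ⁻¹ᵁ V) le_rfl (E.ε V F p x)).trans
    ((CohPullLib.map_sec_self _ le_rfl _).trans (B.compat V F p x))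

end GrothLib.BCComp
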