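import Groth.Agent.Lib.BCCrit.Glue

/-! # Pullback of classes between opens along a composite -/

set_option autoImplicit false
set_option backward.isDefEq.respectTransparency false
set_option linter.style.haveILetI false
set_option maxHeartbeats 1000000
universe u

open CategoryTheory CategoryTheory.Limits AlgebraicGeometry Opposite TopologicalSpace
open GrothLib.BCCoh (pullRes)

namespace GrothLib.BCComp

variable {X Y Z : Scheme.{u}}

theorem pullRes_self (g : X ⟶ Y) (F : Y.Modules) (V : Y.Opens) (s : Γ(F, V)) :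
    pullRes g F V (g ⁻¹ᵁ V) le_rfl s = ((Scheme.Modules.pullbackPushforwardAdjunction g).unit.app F).app V s :=
  (CohPullLib.pullRes_def g F V (g ⁻¹ᵁ V) le_rfl s).trans
    (CohPullLib.map_sec_self ((Scheme.Modules.pullback g).obj F) le_rfl _)

/-- Maps out of a pullback are determined on pulled-back sections. -/
theorem pullback_hom_ext {g : X ⟶ Y} {F : Y.Modules} {M : X.Modules}
    {a b : (Scheme.Modules.pullback g).obj F ⟶ M}
    (h : ∀ (V : Y.Opens) (s : Γ(F, V)), a.app (g ⁻¹ᵁ V) (pullRes g F V (g ⁻¹ᵁ V) le_rfl s) =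
      b.app (g ⁻¹ᵁ V) (pullRes g F V (g ⁻¹ᵁ V) le_rfl s)) : a = b := by
  apply ((Scheme.Modules.pullbackPushforwardAdjunction g).homEquiv _ _).injective
  ext V s
  rw [Adjunction.homEquiv_unit, Adjunction.homEquiv_unit]
  have h0 := h V s
  rw [pullRes_self] at h0
  exact h0

/-- Maps out of an iterated pullback are determined on twice pulled-back sections. -/
theorem pullback_hom_ext₂ {g : Y ⟶ Z} {f : X ⟶ Y} {F : Z.Modules} {M : X.Modules}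
    {a b : (Scheme.Modules.pullback f).obj ((Scheme.Modules.pullback g).obj F) ⟶ M}
    (h : ∀ (V : Z.Opens) (s : Γ(F, V)),
      a.app (f ⁻¹ᵁ (g ⁻¹ᵁ V)) (pullRes f _ (g ⁻¹ᵁ V) (f ⁻¹ᵁ (g ⁻¹ᵁ V)) le_rfl (pullRes g F V (g ⁻¹ᵁ V) le_rfl s)) =
      b.app (f ⁻¹ᵁ (g ⁻¹ᵁ V)) (pullRes f _ (g ⁻¹ᵁ V) (f ⁻¹ᵁ (g ⁻¹ᵁ V)) le_rfl (pullRes g F V (g ⁻¹ᵁ V) le_rfl s))) :
    a = b := by
  apply ((Scheme.Modules.pullbackPushforwardAdjunction f).homEquiv _ _).injective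
  refine pullback_hom_ext fun V s => ?_
  rw [Adjunction.homEquiv_unit, Adjunction.homEquiv_unit]
  have h0 := h V s
  rw [pullRes_self f] at h0
  exact h0

/-- The identification of `pullOn` on pulled-back sections. -/
theorem pullOnIso_pullRes (g : X ⟶ Y) (U : Y.Opens) (U' : X.Opens) (h : U' ≤ g ⁻¹ᵁ U) (F : Y.Modules)
    (O : (U : Scheme.{u}).Opens) (O' : (U' : Scheme.{u}).Opens) (e : O' ≤ g.resLE U U' h ⁻¹ᵁ O)
    (e' : U'.ι ''ᵁ O' ≤ g ⁻¹ᵁ (U.ι ''ᵁ O)) (s : Γ(F.restrict U.ι, O)) :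
    (CohPull.pullOnIso g U U' h F).hom.app O' (pullRes (g.resLE U U' h) (F.restrict U.ι) O O' e s) =
      (show Γ(((Scheme.Modules.pullback g).obj F).restrict U'.ι, O') from
        pullRes g F (U.ι ''ᵁ O) (U'.ι ''ᵁ O') e' (show Γ(F, U.ι ''ᵁ O) from s)) := by
  let r := g.resLE U U' h
  let G := (Scheme.Modules.pullback g).obj F
  let t : Γ(F, U.ι ''ᵁ O) := s
  have eO : O ≤ U.ι ⁻¹ᵁ (U.ι ''ᵁ O) := (U.ι.preimage_image_eq O).ge
  have eO' : O' ≤ U'.ι ⁻¹ᵁ (U'.ι ''ᵁ O') := (U'.ι.preimage_image_eq O').ge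
  have e2 : O' ≤ (r ≫ U.ι) ⁻¹ᵁ (U.ι ''ᵁ O) := e.trans (r.preimage_mono eO)
  have e3 : O' ≤ (U'.ι ≫ g) ⁻¹ᵁ (U.ι ''ᵁ O) := eO'.trans (U'.ι.preimage_mono e')
  have s1 : ((Scheme.Modules.restrictFunctorIsoPullback U.ι).hom.app F).app O s =
      pullRes U.ι F (U.ι ''ᵁ O) O eO t := by
    have := CohPullLib.restrictIso_pullRes U.ι F (U.ι ''ᵁ O) O eO le_rfl t
    rw [CohPullLib.map_sec_self] at this
    exact this
  have s5 : ((Scheme.Modules.restrictFunctorIsoPullback U'.ι).hom.app G).app O'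
      (pullRes g F (U.ι ''ᵁ O) (U'.ι ''ᵁ O') e' t) =
      pullRes U'.ι G (U'.ι ''ᵁ O') O' eO' (pullRes g F (U.ι ''ᵁ O) (U'.ι ''ᵁ O') e' t) := by
    have := CohPullLib.restrictIso_pullRes U'.ι G (U'.ι ''ᵁ O') O' eO' le_rfl
      (pullRes g F (U.ι ''ᵁ O) (U'.ι ''ᵁ O') e' t)
    rw [CohPullLib.map_sec_self] at this
    exact this
  have s4 := CohPullLib.pullbackComp_pullRes U'.ι g F (U.ι ''ᵁ O) (U'.ι ''ᵁ O') O' e' eO' e3 t
  have hinv : ∀ {A B : (U' : Scheme.{u}).Modules} (i : A ≅ B) (u : Γ(A, O')) (v : Γ(B, O')),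
      i.hom.app O' u = v → i.inv.app O' v = u := by
    intro A B i u v huv
    subst huv
    exact ConcreteCategory.congr_hom (congrArg (fun k => Scheme.Modules.Hom.app k O') i.hom_inv_id) u
  show ((Scheme.Modules.restrictFunctorIsoPullback U'.ι).inv.app G).app O'
    (((Scheme.Modules.pullbackComp U'.ι g).inv.app F).app O'
      (((Scheme.Modules.pullbackCongr (Scheme.Hom.resLE_comp_ι g h)).hom.app F).app O'
        (((Scheme.Modules.pullbackComp r U.ι).hom.app F).app O'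
          (((Scheme.Modules.pullback r).map ((Scheme.Modules.restrictFunctorIsoPullback U.ι).hom.app F)).app O'
            (pullRes r (F.restrict U.ι) O O' e s))))) = _
  rw [CohPullLib.pullRes_map, s1, CohPullLib.pullbackComp_pullRes r U.ι F (U.ι ''ᵁ O) O O' eO e e2 t,
    CohPullLib.pullbackCongr_pullRes (Scheme.Hom.resLE_comp_ι g h) F (U.ι ''ᵁ O) O' e2 e3 t]
  exact (congrArg (((Scheme.Modules.restrictFunctorIsoPullback U'.ι).inv.app G).app O')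
    (hinv ((Scheme.Modules.pullbackComp U'.ι g).app F) _ _ s4)).trans
      (hinv ((Scheme.Modules.restrictFunctorIsoPullback U'.ι).app G) _ _ s5)

/-- The two identifications along a composite agree. -/
theorem pullOnIso_comp (f : X ⟶ Y) (g : Y ⟶ Z) (U : Z.Opens) (U₁ : Y.Opens) (U₂ : X.Opens)
    (h₁ : U₁ ≤ g ⁻¹ᵁ U) (h₂ : U₂ ≤ f ⁻¹ᵁ U₁) (h : U₂ ≤ (f ≫ g) ⁻¹ᵁ U) (L : Z.Modules)
    (hr : f.resLE U₁ U₂ h₂ ≫ g.resLE U U₁ h₁ = (f ≫ g).resLE U U₂ h) :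
    (Scheme.Modules.pullback (f.resLE U₁ U₂ h₂)).map (CohPull.pullOnIso g U U₁ h₁ L).hom ≫
        (CohPull.pullOnIso f U₁ U₂ h₂ ((Scheme.Modules.pullback g).obj L)).hom ≫
        (Scheme.Modules.restrictFunctor U₂.ι).map ((Scheme.Modules.pullbackComp f g).hom.app L) =
      (Scheme.Modules.pullbackComp (f.resLE U₁ U₂ h₂) (g.resLE U U₁ h₁)).hom.app (L.restrict U.ι) ≫
        (Scheme.Modules.pullbackCongr hr).hom.app (L.restrict U.ι) ≫
        (CohPull.pullOnIso (f ≫ g) U U₂ h L).hom := by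
  refine pullback_hom_ext₂ fun O s => ?_
  let r₁ := f.resLE U₁ U₂ h₂
  let r₂ := g.resLE U U₁ h₁
  let O₁ := r₂ ⁻¹ᵁ O
  let O₂ := r₁ ⁻¹ᵁ O₁
  have a₁ : U₁.ι ''ᵁ O₁ ≤ g ⁻¹ᵁ (U.ι ''ᵁ O) := by
    rintro _ ⟨z, hz, rfl⟩
    exact ⟨r₂ z, hz, congrArg (fun k : (U₁ : Scheme.{u}) ⟶ Z => k z) (Scheme.Hom.resLE_comp_ι g h₁)⟩
  have a₂ : U₂.ι ''ᵁ O₂ ≤ f ⁻¹ᵁ (U₁.ι ''ᵁ O₁) := by
    rintro _ ⟨z, hz, rfl⟩
    exact ⟨r₁ z, hz, congrArg (fun k : (U₂ : Scheme.{u}) ⟶ Y => k z) (Scheme.Hom.resLE_comp_ι f h₂)⟩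
  have a₃ : U₂.ι ''ᵁ O₂ ≤ (f ≫ g) ⁻¹ᵁ (U.ι ''ᵁ O) := a₂.trans (f.preimage_mono a₁)
  have ec : O₂ ≤ (r₁ ≫ r₂) ⁻¹ᵁ O := le_rfl
  have eh : O₂ ≤ (f ≫ g).resLE U U₂ h ⁻¹ᵁ O := by rw [← hr]; exact ec
  show ((Scheme.Modules.pullbackComp f g).hom.app L).app (U₂.ι ''ᵁ O₂)
      ((CohPull.pullOnIso f U₁ U₂ h₂ ((Scheme.Modules.pullback g).obj L)).hom.app O₂
        (((Scheme.Modules.pullback r₁).map (CohPull.pullOnIso g U U₁ h₁ L).hom).app O₂
          (pullRes r₁ _ O₁ O₂ le_rfl (pullRes r₂ _ O O₁ le_rfl s)))) =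
    (CohPull.pullOnIso (f ≫ g) U U₂ h L).hom.app O₂
      (((Scheme.Modules.pullbackCongr hr).hom.app (L.restrict U.ι)).app O₂
        (((Scheme.Modules.pullbackComp r₁ r₂).hom.app (L.restrict U.ι)).app O₂
          (pullRes r₁ _ O₁ O₂ le_rfl (pullRes r₂ _ O O₁ le_rfl s))))
  rw [CohPullLib.pullbackComp_pullRes r₁ r₂ (L.restrict U.ι) O O₁ O₂ le_rfl le_rfl ec s,
    CohPullLib.pullbackCongr_pullRes hr (L.restrict U.ι) O O₂ ec eh s,
    pullOnIso_pullRes (f ≫ g) U U₂ h L O O₂ eh a₃ s, CohPullLib.pullRes_map,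
    pullOnIso_pullRes g U U₁ h₁ L O O₁ le_rfl a₁ s, pullOnIso_pullRes f U₁ U₂ h₂ _ O₁ O₂ le_rfl a₂]
  exact CohPullLib.pullbackComp_pullRes f g L (U.ι ''ᵁ O) (U₁.ι ''ᵁ O₁) (U₂.ι ''ᵁ O₂) a₁ a₂ a₃ _

/-- **Pullback of classes between opens along a composite.** -/
theorem pullOn_comp (f : X ⟶ Y) (g : Y ⟶ Z) (U : Z.Opens) (U₁ : Y.Opens) (U₂ : X.Opens)
    (h₁ : U₁ ≤ g ⁻¹ᵁ U) (h₂ : U₂ ≤ f ⁻¹ᵁ U₁) (h : U₂ ≤ (f ≫ g) ⁻¹ᵁ U) (L : Z.Modules) (p : ℕ)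
    (x : Coh.HHon Z L U p) :
    CohPull.mapH ((Scheme.Modules.restrictFunctor U₂.ι).map ((Scheme.Modules.pullbackComp f g).hom.app L)) p
        (CohPull.pullOn f U₁ U₂ h₂ ((Scheme.Modules.pullback g).obj L) p (CohPull.pullOn g U U₁ h₁ L p x)) =
      CohPull.pullOn (f ≫ g) U U₂ h L p x := by
  let r₁ := f.resLE U₁ U₂ h₂
  let r₂ := g.resLE U U₁ h₁
  let M := L.restrict U.ι
  have hr : r₁ ≫ r₂ = (f ≫ g).resLE U U₂ h := by
    rw [← cancel_mono U.ι, Category.assoc, Scheme.Hom.resLE_comp_ι, ← Category.assoc, Scheme.Hom.resLE_comp_ι,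
      Category.assoc, Scheme.Hom.resLE_comp_ι]
  show CohPull.mapH _ p (CohPull.mapH _ p (CohPull.pullMod r₁ _ p
    (CohPull.mapH (CohPull.pullOnIso g U U₁ h₁ L).hom p (CohPull.pullMod r₂ M p x)))) =
    CohPull.mapH _ p (CohPull.pullMod _ M p x)
  refine (congrArg (fun w => CohPull.mapH _ p (CohPull.mapH _ p w))
    (CohPullLib.pullMod_natural r₁ (CohPull.pullOnIso g U U₁ h₁ L).hom p (CohPull.pullMod r₂ M p x))).trans ?_
  refine (CohPullLib.mapH_comp _ _ p _).symm.trans ?_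
  refine (CohPullLib.mapH_comp _ _ p _).symm.trans ?_
  refine (congrArg (fun k => CohPull.mapH k p (CohPull.pullMod r₁ _ p (CohPull.pullMod r₂ M p x)))
    (pullOnIso_comp f g U U₁ U₂ h₁ h₂ h L hr)).trans ?_
  refine (CohPullLib.mapH_comp _ _ p _).trans ?_
  refine (CohPullLib.mapH_comp _ _ p _).trans ?_
  refine (congrArg (fun w => CohPull.mapH _ p (CohPull.mapH _ p w)) (CohPullLib.pullMod_comp r₁ r₂ M p x)).trans ?_
  exact congrArg (CohPull.mapH _ p) (CohPullLib.pullMod_congr (r₁ ≫ r₂) hr M p x)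

end GrothLib.BCComp
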